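import Mathlib
import Cfsg.Agent.H553.OddHall_m3
import Cfsg.Agent.S0144
import Cfsg.Agent.Lib.NormalAbelian
import Cfsg.Agent.Solvable.Hall
import Cfsg.Agent.Co2Type.Quad
import Cfsg.Agent.KFacts.SuzLarge
import Cfsg.Agent.SuzThree.CentCard
import Cfsg.Agent.KFacts.HN.Sheet
import Cfsg.Agent.KFacts.HN.PCard
import Cfsg.Agent.KFacts.J2.Facts
import Cfsg.Agent.KFacts.J3Sheet
import Cfsg.Agent.KFacts.J3
import Cfsg.Agent.H237.EvenFi
import Cfsg.Agent.KFacts.FiTF.QuasiBInst_mg_m3
import Cfsg.Agent.H603.SporElim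
import Cfsg.Agent.FastGrp
import Cfsg.Agent.Prune
set_option linter.all false

section
prune_inst 0x7f00000000000000000000000000000000000000000000000000000000000000000000000000000000000000000000000000000000000000000000000000000000000000000000000000000000000000003fffffffffffffffffffffffffffbeffbdffffffff

-- part: H171/RV/TwoP
section
set_option linter.all false
open scoped Cfsg.Agent.FastGrp

/-!
# TEAM RV, R6: groups of order `2^a p` with a unique central involution in the Sylow 2-subgroup (helper171)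

* `card_le_pow` : `|V| ≤ |C_V(t)| ^ (2 ^ j)` if `t ^ (2 ^ j)` centralises the elementary abelian 2-group `V`;
* `top_dvd` : `K / O_2(K)` has order `p 2^j`, `2^j ∣ p - 1`, the Sylow 2-subgroup modulo `O_2(K)` is cyclic;
* `main` : the conclusion.
-/

set_option autoImplicit false
set_option linter.unusedSectionVars false

namespace Cfsg.Agent.H171.RV.TwoP

open Subgroup

universe u

section fix

variable {K : Type u} [Group K] [Finite K]

/-- one step -/
theorem card_le_sq {V : Subgroup K} (hab : ∀ v ∈ V, ∀ w ∈ V, v * w = w * v) (hsq : ∀ v ∈ V, v * v = 1) {t : K}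
    (hn : ∀ v ∈ V, t * v * t⁻¹ ∈ V) (ht : ∀ v ∈ V, t * t * v = v * (t * t)) :
    Nat.card V ≤ Nat.card (V ⊓ centralizer {t} : Subgroup K) ^ 2 := by
  let φ : V →* K :=
    { toFun := fun v => v * (t * v * t⁻¹)
      map_one' := by show (1 : K) * (t * 1 * t⁻¹) = 1; group
      map_mul' := by
        rintro ⟨v, hv⟩ ⟨w, hw⟩
        show v * w * (t * (v * w) * t⁻¹) = v * (t * v * t⁻¹) * (w * (t * w * t⁻¹))
        have h1 : w * (t * v * t⁻¹) = t * v * t⁻¹ * w := hab w hw _ (hn v hv)
        calc v * w * (t * (v * w) * t⁻¹) = v * (w * (t * v * t⁻¹)) * (t * w * t⁻¹) := by group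
          _ = v * (t * v * t⁻¹ * w) * (t * w * t⁻¹) := by rw [h1]
          _ = _ := by group }
  have hinv : ∀ v ∈ V, v⁻¹ = v := fun v hv => by rw [inv_eq_iff_mul_eq_one, hsq v hv]
  have hker : Nat.card φ.ker ≤ Nat.card (V ⊓ centralizer {t} : Subgroup K) := by
    have hle : φ.ker.map V.subtype ≤ V ⊓ centralizer {t} := by
      rintro _ ⟨⟨v, hv⟩, hk, rfl⟩
      refine mem_inf.2 ⟨hv, mem_centralizer_singleton_iff.2 ?_⟩
      have h1 : v * (t * v * t⁻¹) = 1 := hk
      have h2 : t * v * t⁻¹ = v := by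
        have := eq_inv_of_mul_eq_one_right h1
        rw [this, hinv v hv]
      show v * t = t * v
      calc v * t = t * v * t⁻¹ * t := by rw [h2]
        _ = t * v := by group
    have h2 := Subgroup.card_le_of_le hle
    rwa [Subgroup.card_map_of_injective V.subtype_injective] at h2
  have hrange : Nat.card φ.range ≤ Nat.card (V ⊓ centralizer {t} : Subgroup K) := by
    refine Subgroup.card_le_of_le ?_
    rintro _ ⟨⟨v, hv⟩, rfl⟩
    refine mem_inf.2 ⟨V.mul_mem hv (hn v hv), mem_centralizer_singleton_iff.2 ?_⟩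
    show v * (t * v * t⁻¹) * t = t * (v * (t * v * t⁻¹))
    have h1 : t * (t * v * t⁻¹) * t⁻¹ = v := by
      calc t * (t * v * t⁻¹) * t⁻¹ = t * t * v * (t * t)⁻¹ := by group
        _ = v := by rw [ht v hv]; group
    calc v * (t * v * t⁻¹) * t = (t * v * t⁻¹) * v * t := by rw [hab v hv _ (hn v hv)]
      _ = (t * v * t⁻¹) * (t * (t * v * t⁻¹) * t⁻¹) * t := by rw [h1]
      _ = _ := by group
  have h3 : Nat.card V = Nat.card φ.ker * Nat.card φ.range := by
    rw [mul_comm, ← Nat.card_congr (QuotientGroup.quotientKerEquivRange φ).toEquiv]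
    exact Subgroup.card_eq_card_quotient_mul_card_subgroup φ.ker
  rw [h3, sq]
  exact Nat.mul_le_mul hker hrange

/-- **`|V| ≤ |C_V(t)| ^ (2 ^ j)`** -/
theorem card_le_pow {V : Subgroup K} (hab : ∀ v ∈ V, ∀ w ∈ V, v * w = w * v) (hsq : ∀ v ∈ V, v * v = 1) :
    ∀ (j : ℕ) (t : K), (∀ v ∈ V, t * v * t⁻¹ ∈ V) → (∀ v ∈ V, t ^ 2 ^ j * v = v * t ^ 2 ^ j) →
      Nat.card V ≤ Nat.card (V ⊓ centralizer {t} : Subgroup K) ^ (2 ^ j) := by
  intro j
  induction j with
  | zero =>
    intro t _ ht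
    rw [pow_zero, pow_one]
    refine Subgroup.card_le_of_le fun v hv => mem_inf.2 ⟨hv, mem_centralizer_singleton_iff.2 ?_⟩
    have := ht v hv
    rw [pow_zero, pow_one] at this
    exact this.symm
  | succ j ih =>
    intro t hn ht
    have hn2 : ∀ v ∈ V, t * t * v * (t * t)⁻¹ ∈ V := by
      intro v hv
      have := hn _ (hn v hv)
      convert this using 1
      group
    have h1 := ih (t * t) hn2 (fun v hv => by
      have := ht v hv
      rw [pow_succ' 2 j, pow_mul, pow_two] at this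
      exact this)
    -- the fixed points of `t * t`
    set W : Subgroup K := V ⊓ centralizer {t * t} with hW
    have hWn : ∀ w ∈ W, t * w * t⁻¹ ∈ W := by
      rintro w ⟨hw, hw2⟩
      refine mem_inf.2 ⟨hn w hw, mem_centralizer_singleton_iff.2 ?_⟩
      have h2 : w * (t * t) = t * t * w := mem_centralizer_singleton_iff.mp hw2
      show t * w * t⁻¹ * (t * t) = t * t * (t * w * t⁻¹)
      calc t * w * t⁻¹ * (t * t) = t * (w * (t * t)) * t⁻¹ := by group
        _ = t * (t * t * w) * t⁻¹ := by rw [h2]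
        _ = _ := by group
    have h2 := card_le_sq (V := W) (fun v hv w hw => hab v hv.1 w hw.1) (fun v hv => hsq v hv.1) (t := t) hWn
      (fun v hv => (mem_centralizer_singleton_iff.mp hv.2).symm)
    have h3 : Nat.card (W ⊓ centralizer {t} : Subgroup K) ≤ Nat.card (V ⊓ centralizer {t} : Subgroup K) :=
      Subgroup.card_le_of_le fun x hx => ⟨hx.1.1, hx.2⟩
    calc Nat.card V ≤ Nat.card W ^ 2 ^ j := h1
      _ ≤ (Nat.card (V ⊓ centralizer {t} : Subgroup K) ^ 2) ^ 2 ^ j :=
          Nat.pow_le_pow_left (h2.trans (Nat.pow_le_pow_left h3 2)) _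
      _ = _ := by rw [← pow_mul, pow_succ' 2 j]

end fix

/-! ### Groups of order `2^a p` without normal 2-subgroups -/

section top

variable {G : Type u} [Group G] [Finite G]

theorem no_normal {p : ℕ} (hp : p.Prime) {a : ℕ} (hG : Nat.card G = 2 ^ a * p)
    (hO : ∀ M : Subgroup G, M.Normal → IsPGroup 2 M → M = ⊥) (hp2 : p ≠ 2) :
    ∃ A : Subgroup G, A.Normal ∧ Nat.card A = p ∧ centralizer (A : Set G) = A := by
  have hF : Fact (Nat.Prime 2) := ⟨Nat.prime_two⟩
  have hFp : Fact p.Prime := ⟨hp⟩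
  have hsol : Group.IsSolvable G := by
    have := Cfsg.Agent.S0144.result (G := G) (p := 2) (q := p) (a := a) (b := 1) Nat.prime_two hp (by rw [hG, pow_one])
    exact this
  have hne : Nat.card G ≠ 1 := by
    rw [hG]
    intro h
    exact hp.one_lt.ne' (Nat.eq_one_of_mul_eq_one_left h)
  obtain ⟨s, hs, A, hAn, hA1, hAs⟩ := Cfsg.Agent.H571.DExt.exists_normal_pgroup G hne hsol
  have hFs : Fact s.Prime := ⟨hs⟩
  have hs2 : s ≠ 2 := by
    rintro rfl
    exact hA1 (hO A hAn hAs)
  obtain ⟨k, hk⟩ := hAs.exists_card_eq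
  have hk0 : k ≠ 0 := by
    rintro rfl
    rw [pow_zero] at hk
    exact hA1 (Subgroup.eq_bot_of_card_eq A hk)
  have hdA : s ^ k ∣ 2 ^ a * p := by rw [← hk, ← hG]; exact Subgroup.card_subgroup_dvd_card A
  have hcop : Nat.Coprime (s ^ k) (2 ^ a) :=
    Nat.Coprime.pow _ _ ((Nat.coprime_primes hs Nat.prime_two).mpr hs2)
  have hsp : s ^ k ∣ p := hcop.dvd_of_dvd_mul_left hdA
  have hAp : Nat.card A = p := by
    rw [hk]
    rcases (Nat.dvd_prime hp).mp hsp with h | h
    · exfalso
      have := Nat.one_lt_pow hk0 hs.one_lt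
      omega
    · exact h
  refine ⟨A, hAn, hAp, ?_⟩
  have hcyc : IsCyclic A := isCyclic_of_prime_card hAp
  have hcomm : ∀ x ∈ A, ∀ y ∈ A, x * y = y * x := by
    intro x hx y hy
    obtain ⟨g, hg⟩ := hcyc.exists_generator
    obtain ⟨i, hi⟩ := mem_zpowers_iff.mp (hg ⟨x, hx⟩)
    obtain ⟨j, hj⟩ := mem_zpowers_iff.mp (hg ⟨y, hy⟩)
    have h1 : (⟨x, hx⟩ : A) * ⟨y, hy⟩ = ⟨y, hy⟩ * ⟨x, hx⟩ := by
      rw [← hi, ← hj]
      exact ((Commute.refl g).zpow_zpow i j).eq
    exact congrArg Subtype.val h1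
  have hAC : A ≤ centralizer (A : Set G) := by
    intro x hx
    rw [mem_centralizer_iff]
    intro y hy
    exact hcomm y hy x hx
  set C := centralizer (A : Set G) with hC
  have hCn : C.Normal := inferInstance
  -- the 2-part of `C`
  obtain ⟨Q⟩ : Nonempty (Sylow 2 C) := inferInstance
  have hCd : Nat.card C ∣ 2 ^ a * p := by rw [← hG]; exact Subgroup.card_subgroup_dvd_card C
  have hpC : p ∣ Nat.card C := by rw [← hAp]; exact Subgroup.card_dvd_of_le hAC
  obtain ⟨c, hc⟩ := hpC
  have hc2 : c ∣ 2 ^ a := by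
    rw [hc, mul_comm (2 ^ a) p] at hCd
    exact Nat.dvd_of_mul_dvd_mul_left hp.pos hCd
  obtain ⟨b, -, hb⟩ := (Nat.dvd_prime_pow Nat.prime_two).mp hc2
  have hQc : Nat.card (Q : Subgroup C) = 2 ^ b := by
    rw [Q.card_eq_multiplicity, hc, hb, Nat.factorization_mul hp.ne_zero (pow_ne_zero _ two_ne_zero),
      Finsupp.add_apply, hp.factorization, Nat.prime_two.factorization_pow]
    simp [hp2]
  -- `A` centralises `Q`
  have hidx : (Q : Subgroup C).index = p := by
    have h1 := Subgroup.card_mul_index (Q : Subgroup C)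
    rw [hQc, hc, hb, mul_comm p] at h1
    exact Nat.eq_of_mul_eq_mul_left (by positivity) h1
  have hnorm : normalizer ((Q : Subgroup C) : Set C) = ⊤ := by
    have h1 : A.subgroupOf C ≤ normalizer ((Q : Subgroup C) : Set C) := by
      intro x hx
      rw [mem_normalizer_iff]
      intro y
      have h2 : x * y = y * x := by
        apply Subtype.ext
        exact (mem_centralizer_iff.mp y.2 _ (mem_subgroupOf.mp hx))
      rw [h2, mul_inv_cancel_right]
    have h2 : p ∣ Nat.card (normalizer ((Q : Subgroup C) : Set C)) := by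
      rw [← hAp, ← Nat.card_congr (Subgroup.subgroupOfEquivOfLe hAC).toEquiv]
      exact Subgroup.card_dvd_of_le h1
    have h3 : 2 ^ b ∣ Nat.card (normalizer ((Q : Subgroup C) : Set C)) := by
      rw [← hQc]; exact Subgroup.card_dvd_of_le le_normalizer
    have h4 : p * 2 ^ b ∣ Nat.card (normalizer ((Q : Subgroup C) : Set C)) :=
      Nat.Coprime.mul_dvd_of_dvd_of_dvd (Nat.Coprime.pow_right _ ((Nat.coprime_primes hp Nat.prime_two).mpr hp2)) h2 h3
    refine Subgroup.eq_top_of_card_eq _ (Nat.dvd_antisymm (Subgroup.card_subgroup_dvd_card _) ?_)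
    rw [hc, hb]; exact h4
  have hQn : (Q : Subgroup C).Normal := Subgroup.normalizer_eq_top_iff.mp hnorm
  have hQchar : (Q : Subgroup C).Characteristic := Q.characteristic_of_normal hQn
  have hQm : ((Q : Subgroup C).map C.subtype).Normal := inferInstance
  have hQ1 := hO _ hQm (Q.isPGroup'.map C.subtype)
  have hb0 : b = 0 := by
    by_contra hb0
    have h5 : Nat.card ((Q : Subgroup C).map C.subtype) = 2 ^ b := by
      rw [Subgroup.card_map_of_injective C.subtype_injective, hQc]
    rw [hQ1, Subgroup.card_bot] at h5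
    have := Nat.one_lt_pow hb0 (by norm_num : 1 < 2)
    omega
  symm
  refine Subgroup.eq_of_le_of_card_ge hAC ?_
  rw [hAp, hc, hb, hb0, pow_zero, mul_one]

/-- the Sylow 2-subgroup is cyclic of order dividing `p - 1` -/
theorem cyclic_of_top {p : ℕ} (hp : p.Prime) {a : ℕ} (hG : Nat.card G = 2 ^ a * p)
    (hO : ∀ M : Subgroup G, M.Normal → IsPGroup 2 M → M = ⊥) (hp2 : p ≠ 2) {T : Subgroup G}
    (hT : Nat.card T = 2 ^ a) : 2 ^ a ∣ p - 1 ∧ ∃ t ∈ T, ∀ x ∈ T, x ∈ zpowers t := by
  obtain ⟨A, hAn, hAp, hAc⟩ := no_normal hp hG hO hp2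
  have hFp : Fact p.Prime := ⟨hp⟩
  have hcyc : IsCyclic A := isCyclic_of_prime_card hAp
  let f : T →* MulAut A := (MulAut.conjNormal : G →* MulAut A).comp T.subtype
  have hcop : Nat.Coprime (Nat.card T) (Nat.card A) := by
    rw [hT, hAp]
    exact Nat.Coprime.pow_left _ ((Nat.coprime_primes Nat.prime_two hp).mpr hp2.symm)
  have hf : Function.Injective f := by
    rw [← MonoidHom.ker_eq_bot_iff, eq_bot_iff]
    rintro ⟨x, hx⟩ hk
    have h1 : x ∈ centralizer (A : Set G) := by
      rw [mem_centralizer_iff]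
      intro y hy
      have h2 := DFunLike.congr_fun (MonoidHom.mem_ker.mp hk) ⟨y, hy⟩
      have h3 : x * y * x⁻¹ = y := congrArg Subtype.val h2
      calc y * x = x * y * x⁻¹ * x := by rw [h3]
        _ = x * y := by group
    rw [hAc] at h1
    have h4 : x ∈ T ⊓ A := ⟨hx, h1⟩
    rw [(Subgroup.disjoint_of_coprime_natCard hcop).eq_bot] at h4
    exact Subtype.ext h4
  let e := IsCyclic.mulAutMulEquiv A
  have hZ : IsCyclic (ZMod (Nat.card A))ˣ := by rw [hAp]; exact ZMod.isCyclic_units_prime hp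
  have hTc : IsCyclic T := isCyclic_of_injective (e.toMonoidHom.comp f) (e.injective.comp hf)
  refine ⟨?_, ?_⟩
  · have h1 := Subgroup.card_dvd_of_injective f hf
    rw [hT, hcyc.card_mulAut, hAp, Nat.totient_prime hp] at h1
    exact h1
  · obtain ⟨⟨t, ht⟩, hgen⟩ := hTc.exists_generator
    refine ⟨t, ht, fun x hx => ?_⟩
    obtain ⟨i, hi⟩ := mem_zpowers_iff.mp (hgen ⟨x, hx⟩)
    exact mem_zpowers_iff.mpr ⟨i, congrArg Subtype.val hi⟩

end top

section main

variable {K : Type u} [Group K] [Finite K]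

/-- **Groups of order `2^a p` with a unique central involution `z` in the Sylow 2-subgroup**: `p` divides `|C(z)|`, apart
from numerical exceptions. -/
theorem main {p a : ℕ} (hp : p.Prime) (hp2 : p ≠ 2) (hK : Nat.card K = 2 ^ a * p) {T : Subgroup K}
    (hT : Nat.card T = 2 ^ a) {z : K} (hzT : z ∈ T) (hz1 : z ≠ 1) (hzz : z * z = 1) (hzc : ∀ t ∈ T, t * z = z * t)
    (huniq : ∀ w ∈ T, w * w = 1 → (∀ t ∈ T, t * w = w * t) → w = 1 ∨ w = z) (hap : ¬ 2 ^ a ∣ p - 1)
    (hcz : ¬ p ∣ Nat.card (centralizer ({z} : Set K))) :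
    ∃ j m i : ℕ, 2 ^ j ∣ p - 1 ∧ m ≤ 2 ^ j ∧ i < m ∧ 2 ^ m % p = 2 ^ i % p ∧ m + j ≤ a := by
  have hF : Fact (Nat.Prime 2) := ⟨Nat.prime_two⟩
  have hFp : Fact p.Prime := ⟨hp⟩
  have hTp : IsPGroup 2 T := IsPGroup.of_card hT
  set N := T.normalCore with hN
  have hNT : N ≤ T := Subgroup.normalCore_le T
  obtain ⟨b, hb⟩ := (hTp.to_le hNT).exists_card_eq
  have hba : b ≤ a := by
    have h1 := Subgroup.card_dvd_of_le hNT
    rw [hb, hT] at h1
    exact (Nat.pow_dvd_pow_iff_le_right (by norm_num)).mp h1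
  -- normal 2-subgroups
  have hmax : ∀ M : Subgroup K, M.Normal → IsPGroup 2 M → M ≤ N := by
    intro M hM hMp
    have h1 : IsPGroup 2 (T ⊔ M : Subgroup K) := hTp.to_sup_of_normal_right hMp
    obtain ⟨k, hk⟩ := h1.exists_card_eq
    have h2 : 2 ^ k ∣ 2 ^ a * p := by rw [← hk, ← hK]; exact Subgroup.card_subgroup_dvd_card _
    have h3 : 2 ^ k ∣ 2 ^ a :=
      (Nat.Coprime.pow_left k ((Nat.coprime_primes Nat.prime_two hp).mpr hp2.symm)).dvd_of_dvd_mul_right h2
    have h4 : T = T ⊔ M := Subgroup.eq_of_le_of_card_ge le_sup_left (by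
      rw [hk, hT]; exact Nat.le_of_dvd (by positivity) h3)
    refine Subgroup.normal_le_normalCore.mpr ?_
    rw [h4]; exact le_sup_right
  have hNN : N.Normal := inferInstance
  have hKN : Nat.card (K ⧸ N) = 2 ^ (a - b) * p := by
    have h1 := Subgroup.card_eq_card_quotient_mul_card_subgroup N
    rw [hK, hb] at h1
    have h2 : 2 ^ a = 2 ^ (a - b) * 2 ^ b := by rw [← pow_add]; congr 1; omega
    rw [h2] at h1
    apply Nat.eq_of_mul_eq_mul_right (show 0 < 2 ^ b by positivity)
    rw [← h1]; ring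
  have hO : ∀ M : Subgroup (K ⧸ N), M.Normal → IsPGroup 2 M → M = ⊥ := by
    intro M hM hMp
    have h1 : IsPGroup 2 (M.comap (QuotientGroup.mk' N)) := by
      obtain ⟨k, hk⟩ := hMp.exists_card_eq
      refine IsPGroup.of_card (n := k + b) ?_
      rw [Cfsg.Agent.Solvable.Hall.card_comap_mk, hk, hb, pow_add]
    have h2 := hmax _ (hM.comap _) h1
    rw [eq_bot_iff]
    intro x hx
    obtain ⟨y, rfl⟩ := QuotientGroup.mk'_surjective N x
    exact (QuotientGroup.eq_one_iff y).mpr (h2 hx)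
  have hTN : Nat.card (T.map (QuotientGroup.mk' N)) = 2 ^ (a - b) := by
    have h1 := Cfsg.Agent.Solvable.Hall.card_map_mk N T
    rw [inf_eq_left.mpr hNT, hb, hT] at h1
    have h2 : 2 ^ a = 2 ^ (a - b) * 2 ^ b := by rw [← pow_add]; congr 1; omega
    rw [h2] at h1
    exact Nat.eq_of_mul_eq_mul_right (by positivity) h1
  obtain ⟨hj, tb, htb, hgen⟩ := cyclic_of_top hp hKN hO hp2 hTN
  set j := a - b with hjdef
  obtain ⟨t, htT, rfl⟩ := htb
  have hb0 : b ≠ 0 := by
    rintro rfl
    rw [hjdef, Nat.sub_zero] at hj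
    exact hap hj
  -- generation of `T`
  have hTgen : ∀ x ∈ T, ∃ k : ℤ, ∃ n ∈ N, x = t ^ k * n := by
    intro x hx
    obtain ⟨k, hk⟩ := mem_zpowers_iff.mp (hgen _ ⟨x, hx, rfl⟩)
    refine ⟨k, (t ^ k)⁻¹ * x, ?_, by group⟩
    rw [← map_zpow] at hk
    exact QuotientGroup.eq.mp hk
  have htj : t ^ 2 ^ j ∈ N := by
    have h1 : (QuotientGroup.mk' N t : K ⧸ N) ^ 2 ^ j = 1 := by
      have h2 : (⟨QuotientGroup.mk' N t, ⟨t, htT, rfl⟩⟩ : T.map (QuotientGroup.mk' N)) ^
          Nat.card (T.map (QuotientGroup.mk' N)) = 1 := pow_card_eq_one'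
      rw [hTN] at h2
      exact congrArg Subtype.val h2
    rw [← map_pow] at h1
    exact (QuotientGroup.eq_one_iff _).mp h1
  -- `z ∈ N`
  have hzN : z ∈ N := by
    have hnil : Group.IsNilpotent T := hTp.isNilpotent
    have h1 : (N.subgroupOf T) ≠ ⊥ := by
      intro h
      have h2 := Nat.card_congr (Subgroup.subgroupOfEquivOfLe hNT).toEquiv
      rw [h, Subgroup.card_bot, hb] at h2
      have := Nat.one_lt_pow hb0 (by norm_num : 1 < 2)
      omega
    have h2 := Cfsg.Agent.Lib.NormalAbelian.normal_inf_center_ne_bot (N.subgroupOf T) h1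
    set W : Subgroup T := N.subgroupOf T ⊓ center T with hW
    have hWp : IsPGroup 2 W := hTp.to_subgroup W
    obtain ⟨k, hk⟩ := hWp.exists_card_eq
    have hk0 : k ≠ 0 := by
      rintro rfl
      rw [pow_zero] at hk
      exact h2 (Subgroup.eq_bot_of_card_eq W hk)
    obtain ⟨w, hw⟩ := exists_prime_orderOf_dvd_card' (G := W) 2 (by rw [hk]; exact dvd_pow_self 2 hk0)
    have hw2 : ((w : T) : K) * ((w : T) : K) = 1 := by
      have h3 : w ^ 2 = 1 := by rw [← hw]; exact pow_orderOf_eq_one w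
      rw [pow_two] at h3
      exact congrArg (fun y : W => ((y : T) : K)) h3
    have hw1 : ((w : T) : K) ≠ 1 := by
      intro h3
      have h4 : w = 1 := Subtype.ext (Subtype.ext h3)
      rw [h4, orderOf_one] at hw
      norm_num at hw
    have hwN : ((w : T) : K) ∈ N := mem_subgroupOf.mp (mem_inf.mp w.2).1
    have hwc : ∀ t ∈ T, t * ((w : T) : K) = ((w : T) : K) * t := by
      intro y hy
      have h3 := mem_center_iff.mp (mem_inf.mp w.2).2 ⟨y, hy⟩
      exact congrArg Subtype.val h3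
    rcases huniq _ (w : T).2 hw2 hwc with h3 | h3
    · exact absurd h3 hw1
    · rw [← h3]; exact hwN
  -- the elementary abelian normal subgroup
  let E : Subgroup K :=
    { carrier := {v | v ∈ N ∧ (∀ n ∈ N, n * v = v * n) ∧ v * v = 1}
      mul_mem' := by
        rintro v w ⟨hv, hv1, hv2⟩ ⟨hw, hw1, hw2⟩
        refine ⟨N.mul_mem hv hw, fun n hn => ?_, ?_⟩
        · calc n * (v * w) = (n * v) * w := by group
            _ = v * (n * w) := by rw [hv1 n hn]; group
            _ = v * w * n := by rw [hw1 n hn]; group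
        · calc v * w * (v * w) = v * (w * v) * w := by group
            _ = v * (v * w) * w := by rw [hv1 w hw]
            _ = (v * v) * (w * w) := by group
            _ = 1 := by rw [hv2, hw2, one_mul]
      one_mem' := ⟨N.one_mem, fun n _ => by rw [mul_one, one_mul], one_mul 1⟩
      inv_mem' := by
        rintro v ⟨hv, hv1, hv2⟩
        have h1 : v⁻¹ = v := by rw [inv_eq_iff_mul_eq_one, hv2]
        rw [h1]
        exact ⟨hv, hv1, hv2⟩ }
  have hEn : E.Normal := by
    refine ⟨?_⟩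
    rintro v ⟨hv, hv1, hv2⟩ g
    refine ⟨hNN.conj_mem v hv g, fun n hn => ?_, ?_⟩
    · have h1 := hv1 (g⁻¹ * n * g) (by simpa using hNN.conj_mem n hn g⁻¹)
      calc n * (g * v * g⁻¹) = g * ((g⁻¹ * n * g) * v) * g⁻¹ := by group
        _ = g * (v * (g⁻¹ * n * g)) * g⁻¹ := by rw [h1]
        _ = _ := by group
    · calc g * v * g⁻¹ * (g * v * g⁻¹) = g * (v * v) * g⁻¹ := by group
        _ = 1 := by rw [hv2]; group
  set V := normalClosure ({z} : Set K) with hV
  have hVE : V ≤ E := Subgroup.normalClosure_le_normal (by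
    rw [Set.singleton_subset_iff]
    exact ⟨hzN, fun n hn => hzc n (hNT hn), hzz⟩)
  have hVN : V ≤ N := fun v hv => (hVE hv).1
  have hVn : V.Normal := inferInstance
  have hzV : z ∈ V := Subgroup.subset_normalClosure rfl
  have hab : ∀ v ∈ V, ∀ w ∈ V, v * w = w * v := fun v hv w hw => (hVE hw).2.1 v (hVN hv)
  have hsq : ∀ v ∈ V, v * v = 1 := fun v hv => (hVE hv).2.2
  -- fixed points of `t`
  have hfix : Nat.card (V ⊓ centralizer {t} : Subgroup K) ≤ 2 := by
    have h1 : ∀ v ∈ (V ⊓ centralizer {t} : Subgroup K), v = 1 ∨ v = z := by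
      intro v hv
      obtain ⟨hv, hvt⟩ := mem_inf.mp hv
      have hvt' : v * t = t * v := mem_centralizer_singleton_iff.mp hvt
      refine huniq v (hNT (hVN hv)) (hsq v hv) fun x hx => ?_
      obtain ⟨k, n, hn, rfl⟩ := hTgen x hx
      have h2 : t ^ k * v = v * t ^ k := ((show Commute v t from hvt').zpow_right k).eq.symm
      have h3 : n * v = v * n := (hVE hv).2.1 n hn
      calc t ^ k * n * v = t ^ k * (n * v) := by group
        _ = (t ^ k * v) * n := by rw [h3]; group
        _ = v * (t ^ k * n) := by rw [h2]; group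
    have h2 : Set.ncard ((V ⊓ centralizer {t} : Subgroup K) : Set K) ≤ Set.ncard ({1, z} : Set K) :=
      Set.ncard_le_ncard (fun v hv => by
        rcases h1 v hv with h | h
        · exact Or.inl h
        · exact Or.inr h)
    rw [Set.ncard_pair (Ne.symm hz1)] at h2
    exact h2
  have hVle : Nat.card V ≤ 2 ^ 2 ^ j := by
    refine (card_le_pow hab hsq j t (fun v hv => hVn.conj_mem v hv t) (fun v hv => (hVE hv).2.1 _ htj)).trans ?_
    exact Nat.pow_le_pow_left hfix _
  obtain ⟨m, hm⟩ := ((hTp.to_le hNT).to_le hVN).exists_card_eq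
  have hmj : m ≤ 2 ^ j := by
    rw [hm] at hVle
    exact (Nat.pow_le_pow_iff_right (by norm_num)).mp hVle
  have hmb : m ≤ b := by
    have h1 := Subgroup.card_dvd_of_le hVN
    rw [hm, hb] at h1
    exact (Nat.pow_dvd_pow_iff_le_right (by norm_num)).mp h1
  -- fixed points of an element of order `p`
  obtain ⟨x, hx⟩ := exists_prime_orderOf_dvd_card' (G := K) p (by rw [hK]; exact dvd_mul_left _ _)
  obtain ⟨i, hi⟩ := ((hTp.to_le hNT).to_le (inf_le_left.trans hVN : (V ⊓ centralizer {x} : Subgroup K) ≤ N)).exists_card_eq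
  have hmod : Nat.card V % p = Nat.card (V ⊓ centralizer {x} : Subgroup K) % p := by
    have hX : IsPGroup p (zpowers x) := IsPGroup.of_card (n := 1) (by rw [Nat.card_zpowers, hx, pow_one])
    let act : MulAction (zpowers x) V :=
      MulAction.compHom V ((MulAut.conjNormal : K →* MulAut V).comp (zpowers x).subtype)
    have h1 := hX.card_modEq_card_fixedPoints V
    have h2 : Nat.card (MulAction.fixedPoints (zpowers x) V) = Nat.card (V ⊓ centralizer {x} : Subgroup K) := by
      refine Nat.card_congr ⟨fun v => ⟨v.1.1, mem_inf.2 ⟨v.1.2, mem_centralizer_singleton_iff.2 ?_⟩⟩,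
        fun v => ⟨⟨v.1, (mem_inf.1 v.2).1⟩, ?_⟩, fun v => rfl, fun v => rfl⟩
      · have h3 := v.2 ⟨x, mem_zpowers x⟩
        have h4 : x * v.1.1 * x⁻¹ = v.1.1 := congrArg Subtype.val h3
        calc v.1.1 * x = x * v.1.1 * x⁻¹ * x := by rw [h4]
          _ = x * v.1.1 := by group
      · rintro ⟨_, k, rfl⟩
        apply Subtype.ext
        have h4 : v.1 * x = x * v.1 := mem_centralizer_singleton_iff.mp (mem_inf.1 v.2).2
        have h5 : v.1 * x ^ k = x ^ k * v.1 := ((show Commute v.1 x from h4).zpow_right k).eq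
        show x ^ k * v.1 * (x ^ k)⁻¹ = v.1
        rw [← h5]; group
    rw [← h2]
    exact h1
  have him : i < m := by
    have h1 := Subgroup.card_le_of_le (inf_le_left : V ⊓ centralizer {x} ≤ V)
    rw [hi, hm] at h1
    have h2 : i ≤ m := (Nat.pow_le_pow_iff_right (by norm_num)).mp h1
    rcases h2.lt_or_eq with h3 | h3
    · exact h3
    · exfalso
      have h4 : V ⊓ centralizer {x} = V := Subgroup.eq_of_le_of_card_ge inf_le_left (by rw [hi, hm, h3])
      have h5 : z ∈ V ⊓ centralizer {x} := by rw [h4]; exact hzV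
      have h6 := mem_centralizer_singleton_iff.mp (mem_inf.mp h5).2
      apply hcz
      have h7 : x ∈ centralizer ({z} : Set K) := mem_centralizer_singleton_iff.mpr h6.symm
      have h8 := orderOf_dvd_natCard (⟨x, h7⟩ : centralizer ({z} : Set K))
      rwa [Subgroup.orderOf_mk, hx] at h8
  refine ⟨j, m, i, hj, hmj, him, ?_, by omega⟩
  rw [← hm, ← hi]; exact hmod

end main

section group

open Cfsg

variable {S : Type u} [Group S] [Finite S]

/-- **The Sylow 2-subgroups have a unique central involution `z`**, `M = |C(z)|`. -/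
def ZT (S : Type*) [Group S] (M : ℕ) : Prop :=
  ∃ (T : Subgroup S) (z : S), IsPGroup 2 T ∧ ¬ 2 ∣ T.index ∧ z ∈ T ∧ z ≠ 1 ∧ z * z = 1 ∧ (∀ t ∈ T, t * z = z * t) ∧
    (∀ w ∈ T, w * w = 1 → (∀ t ∈ T, t * w = w * t) → w = 1 ∨ w = z) ∧
    Nat.card (centralizer ({z} : Set S)) ∣ M

/-- **No Hall `{2, p}`-subgroup.** -/
theorem no_hall {M : ℕ} (hZ : ZT S M) {p a b : ℕ} (hp : p.Prime) (hp2 : p ≠ 2) (hS : Nat.card S = 2 ^ a * p * b)
    (h2b : ¬ 2 ∣ b) (hpb : ¬ p ∣ b) (hpM : ¬ p ∣ M) (hap : ¬ 2 ^ a ∣ p - 1)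
    (hnum : ∀ j m i : ℕ, 2 ^ j ∣ p - 1 → m ≤ 2 ^ j → i < m → m + j ≤ a → 2 ^ m % p ≠ 2 ^ i % p) (H : Subgroup S)
    (hH : IsPiHall ({2, p} : Set ℕ) H) : False := by
  have hF : Fact (Nat.Prime 2) := ⟨Nat.prime_two⟩
  have hFp : Fact p.Prime := ⟨hp⟩
  obtain ⟨T, z, hTp, hTi, hzT, hz1, hzz, hzc, huniq, hM⟩ := hZ
  -- the order of `H`
  have hH1 : ∀ q : ℕ, q.Prime → q ∣ Nat.card H → q = 2 ∨ q = p := by
    intro q hq hd
    have := hH.1 q hq hd
    rcases this with h | h
    · exact Or.inl h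
    · exact Or.inr h
  have hcardH : Nat.card H = 2 ^ a * p := by
    have h1 := Subgroup.card_mul_index H
    rw [hS] at h1
    have hi2 : ¬ 2 ∣ H.index := hH.2 2 Nat.prime_two (Or.inl rfl)
    have hip : ¬ p ∣ H.index := hH.2 p hp (Or.inr rfl)
    have hc2 : Nat.Coprime (2 ^ a) H.index := Nat.Coprime.pow_left _ ((Nat.Prime.coprime_iff_not_dvd Nat.prime_two).mpr hi2)
    have hcp : Nat.Coprime p H.index := (Nat.Prime.coprime_iff_not_dvd hp).mpr hip
    have hcb : Nat.Coprime (Nat.card H) b := by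
      by_contra hcon
      obtain ⟨q, hq, hq1, hq2⟩ := Nat.Prime.not_coprime_iff_dvd.mp hcon
      rcases hH1 q hq hq1 with rfl | rfl
      · exact h2b hq2
      · exact hpb hq2
    have h2 : 2 ^ a * p ∣ Nat.card H := by
      refine Nat.Coprime.dvd_of_dvd_mul_right (Nat.Coprime.mul_left hc2 hcp) ?_
      rw [h1]; exact dvd_mul_right _ _
    have h3 : Nat.card H ∣ 2 ^ a * p := by
      refine Nat.Coprime.dvd_of_dvd_mul_right hcb ?_
      rw [← h1]; exact dvd_mul_right _ _
    exact Nat.dvd_antisymm h3 h2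
  have hTc : Nat.card T = 2 ^ a := by
    obtain ⟨k, hk⟩ := hTp.exists_card_eq
    have h1 := Subgroup.card_mul_index T
    rw [hS] at h1
    have hc2 : Nat.Coprime (2 ^ a) T.index := Nat.Coprime.pow_left _ ((Nat.Prime.coprime_iff_not_dvd Nat.prime_two).mpr hTi)
    have h2 : 2 ^ a ∣ Nat.card T := by
      refine Nat.Coprime.dvd_of_dvd_mul_right hc2 ?_
      rw [h1, mul_assoc]; exact dvd_mul_right _ _
    have h3 : Nat.card T ∣ 2 ^ a := by
      have h4 : Nat.card T ∣ 2 ^ a * (p * b) := by rw [← mul_assoc, ← h1]; exact dvd_mul_right _ _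
      refine Nat.Coprime.dvd_of_dvd_mul_right ?_ h4
      rw [hk]
      refine Nat.Coprime.pow_left _ ((Nat.Prime.coprime_iff_not_dvd Nat.prime_two).mpr ?_)
      intro h5
      rcases (Nat.prime_two.dvd_mul).1 h5 with h6 | h6
      · exact hp2 ((Nat.prime_dvd_prime_iff_eq Nat.prime_two hp).mp h6).symm
      · exact h2b h6
    exact Nat.dvd_antisymm h3 h2
  -- a conjugate of `H` which contains `T`
  obtain ⟨g, hg⟩ : ∃ g : S, T ≤ H.map (MulAut.conj g).toMonoidHom := by
    obtain ⟨Q⟩ : Nonempty (Sylow 2 H) := inferInstance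
    have hQc : Nat.card (Q : Subgroup H) = 2 ^ a := by
      rw [Q.card_eq_multiplicity, hcardH, Nat.factorization_mul (pow_ne_zero _ two_ne_zero) hp.ne_zero,
        Finsupp.add_apply, hp.factorization, Nat.prime_two.factorization_pow]
      simp [hp2]
    have hQ' : Nat.card ((Q : Subgroup H).map H.subtype) = 2 ^ (Nat.card S).factorization 2 := by
      rw [Subgroup.card_map_of_injective H.subtype_injective, hQc]
      congr 1
      have hb0 : b ≠ 0 := by rintro rfl; exact h2b (dvd_zero _)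
      rw [hS, Nat.factorization_mul (mul_ne_zero (pow_ne_zero _ two_ne_zero) hp.ne_zero) hb0,
        Nat.factorization_mul (pow_ne_zero _ two_ne_zero) hp.ne_zero,
        Finsupp.add_apply, Finsupp.add_apply, hp.factorization, Nat.prime_two.factorization_pow,
        Nat.factorization_eq_zero_of_not_dvd h2b]
      simp [hp2]
    have hT' : Nat.card T = 2 ^ (Nat.card S).factorization 2 := by
      rw [← hQ', Subgroup.card_map_of_injective H.subtype_injective, hQc, hTc]
    obtain ⟨g, hg⟩ := MulAction.exists_smul_eq S (Sylow.ofCard _ hQ') (Sylow.ofCard _ hT')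
    refine ⟨g, ?_⟩
    have h1 : ((Q : Subgroup H).map H.subtype).map (MulAut.conj g).toMonoidHom = T :=
      congrArg (fun P : Sylow 2 S => (P : Subgroup S)) hg
    rw [← h1]
    exact Subgroup.map_mono (Subgroup.map_subtype_le _)
  set K := H.map (MulAut.conj g).toMonoidHom with hK
  have hKc : Nat.card K = 2 ^ a * p := by
    rw [hK, Subgroup.card_map_of_injective (MulAut.conj g).injective, hcardH]
  have hTK : Nat.card (T.subgroupOf K) = 2 ^ a := by
    rw [Nat.card_congr (Subgroup.subgroupOfEquivOfLe hg).toEquiv, hTc]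
  by_cases hpc : p ∣ Nat.card (centralizer ({⟨z, hg hzT⟩} : Set K))
  · apply hpM
    refine (hpc.trans ?_).trans hM
    have h1 : (centralizer ({⟨z, hg hzT⟩} : Set K)).map K.subtype ≤ centralizer ({z} : Set S) := by
      rintro _ ⟨x, hx, rfl⟩
      rw [mem_centralizer_singleton_iff]
      exact congrArg Subtype.val (mem_centralizer_singleton_iff.mp hx)
    have h2 := Subgroup.card_dvd_of_le h1
    rwa [Subgroup.card_map_of_injective K.subtype_injective] at h2
  · obtain ⟨j, m, i, h1, h2, h3, h4, h5⟩ := main (K := K) hp hp2 hKc (T := T.subgroupOf K) hTK (z := ⟨z, hg hzT⟩)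
      hzT (fun h => hz1 (congrArg Subtype.val h)) (Subtype.ext hzz)
      (fun t ht => Subtype.ext (hzc t ht))
      (fun w hw hww hwc => by
        rcases huniq w hw (congrArg Subtype.val hww) (fun t ht => by
          have := hwc ⟨t, hg ht⟩ ht
          exact congrArg Subtype.val this) with h | h
        · exact Or.inl (Subtype.ext h)
        · exact Or.inr (Subtype.ext h)) hap hpc
    exact hnum j m i h1 h2 h3 h5 h4

/-- the numerical condition -/
def chk (p a : ℕ) : Bool :=
  decide (p < 32) && (decide (5 ≤ p) && (!decide (2 ^ a ∣ p - 1) &&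
    (List.range 5).all fun j => !decide (2 ^ j ∣ p - 1) || (List.range 17).all fun m =>
      !decide (m ≤ 2 ^ j) || (!decide (m + j ≤ a) || (List.range m).all fun i => decide (2 ^ m % p ≠ 2 ^ i % p))))

/-- **No `D_{2,p}`**, from the unique central involution -/
theorem no2_of_zt {M : ℕ} (hZ : ZT S M) {p a b : ℕ} (hp : p.Prime) (hS : Nat.card S = 2 ^ a * p * b)
    (hc : chk p a = true) (h2b : ¬ 2 ∣ b) (hpb : ¬ p ∣ b) (hpM : ¬ p ∣ M) :
    ¬ H571.DExt.Dom ({2, p} : Set ℕ) S := by
  rintro ⟨H, hH, -⟩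
  unfold chk at hc
  rw [Bool.and_eq_true, Bool.and_eq_true, Bool.and_eq_true, decide_eq_true_eq, decide_eq_true_eq,
    Bool.not_eq_true', decide_eq_false_iff_not, List.all_eq_true] at hc
  obtain ⟨h1, h2, h3, h4⟩ := hc
  refine no_hall hZ hp (by omega) hS h2b hpb hpM h3 (fun j m i hj hm hi hma => ?_) H hH
  have hj5 : j < 5 := by
    by_contra hcon
    have h5 : 2 ^ 5 ∣ p - 1 := (pow_dvd_pow 2 (by omega)).trans hj
    have h6 := Nat.le_of_dvd (by omega) h5
    omega
  have hm17 : m < 17 := by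
    have : 2 ^ j ≤ 2 ^ 4 := Nat.pow_le_pow_right (by norm_num) (by omega)
    omega
  have h5 := h4 j (List.mem_range.mpr hj5)
  rw [Bool.or_eq_true, Bool.not_eq_true', decide_eq_false_iff_not, List.all_eq_true] at h5
  have h6 := h5.resolve_left (fun h => h hj) m (List.mem_range.mpr hm17)
  rw [Bool.or_eq_true, Bool.not_eq_true', decide_eq_false_iff_not, Bool.or_eq_true, Bool.not_eq_true',
    decide_eq_false_iff_not, List.all_eq_true] at h6
  have h7 := (h6.resolve_left (fun h => h hm)).resolve_left (fun h => h hma) i (List.mem_range.mpr hi)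
  exact of_decide_eq_true h7

/-- **`ZT` from a 2-subgroup `R` whose centraliser has only the involution `z`** -/
theorem zt_of_cent {R : Subgroup S} {z : S} (hR : IsPGroup 2 R) (hz1 : z ≠ 1) (hzz : z * z = 1)
    (hc : ∀ x : S, x * x = 1 → (∀ r ∈ R, r * x = x * r) → x = 1 ∨ x = z) {M : ℕ}
    (hM : Nat.card (centralizer ({z} : Set S)) ∣ M) : ZT S M := by
  have hF : Fact (Nat.Prime 2) := ⟨Nat.prime_two⟩
  obtain ⟨T, hT⟩ := hR.exists_le_sylow
  by_cases hT1 : (T : Subgroup S) = ⊥
  · exfalso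
    have h3 := T.not_dvd_index
    rw [hT1, Subgroup.index_bot] at h3
    apply h3
    have h4 : orderOf z = 2 := orderOf_eq_prime (by rw [pow_two, hzz]) hz1
    rw [← h4]
    exact orderOf_dvd_natCard z
  · have hnt : Nontrivial T := (Subgroup.nontrivial_iff_ne_bot _).mpr hT1
    have h1 := T.isPGroup'.center_nontrivial
    obtain ⟨k, hk⟩ := (T.isPGroup'.to_subgroup (center (T : Subgroup S))).exists_card_eq
    have hk0 : k ≠ 0 := by
      rintro rfl
      rw [pow_zero] at hk
      have := Finite.one_lt_card (α := center (T : Subgroup S))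
      omega
    obtain ⟨w, hw⟩ := exists_prime_orderOf_dvd_card' (G := center (T : Subgroup S)) 2
      (by rw [hk]; exact dvd_pow_self 2 hk0)
    have hw2 : ((w : T) : S) * ((w : T) : S) = 1 := by
      have h3 : w ^ 2 = 1 := orderOf_dvd_iff_pow_eq_one.mp (by rw [hw])
      rw [pow_two] at h3
      exact congrArg (fun y : center (T : Subgroup S) => ((y : T) : S)) h3
    have hw1 : ((w : T) : S) ≠ 1 := by
      intro h3
      have h4 : w = 1 := Subtype.ext (Subtype.ext h3)
      rw [h4, orderOf_one] at hw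
      norm_num at hw
    have hwc : ∀ t ∈ (T : Subgroup S), t * ((w : T) : S) = ((w : T) : S) * t := by
      intro y hy
      exact congrArg Subtype.val (mem_center_iff.mp w.2 ⟨y, hy⟩)
    have hwz : ((w : T) : S) = z := by
      rcases hc _ hw2 (fun r hr => hwc r (hT hr)) with h | h
      · exact absurd h hw1
      · exact h
    refine ⟨T, z, T.isPGroup', T.not_dvd_index, ?_, hz1, ?_, ?_, ?_, hM⟩
    · rw [← hwz]; exact (w : T).2
    · rw [← hwz]; exact hw2
    · rw [← hwz]; exact hwc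
    · exact fun x _ hxx hx => hc x hxx fun r hr => hx r (hT hr)

end group

end Cfsg.Agent.H171.RV.TwoP
end

-- part: H171/RV/FactsA
section
set_option linter.all false
open scoped Cfsg.Agent.FastGrp

/-!
# TEAM RV, R6: `ZT` (unique central involution of the Sylow 2-subgroup), first rows (helper171)

`J2`, `J3`, `Suz`, `HN`, `Fi24'`.
-/

set_option autoImplicit false

namespace Cfsg.Agent.H171.RV.TwoP

open Cfsg Cfsg.Spor Subgroup

universe u v

theorem ZT.congr {S : Type u} {S' : Type v} [Group S] [Group S'] (e : S ≃* S') {M : ℕ} (h : ZT S M) : ZT S' M := by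
  obtain ⟨T, z, hT, hi, hz, h1, hzz, hc, hu, hM⟩ := h
  refine ⟨T.map e.toMonoidHom, e z, hT.map _, ?_, ⟨z, hz, rfl⟩, ?_, ?_, ?_, ?_, ?_⟩
  · rwa [Subgroup.index_map_of_bijective e.bijective]
  · exact fun h => h1 (e.injective (h.trans (map_one e).symm))
  · rw [← map_mul, hzz, map_one]
  · rintro _ ⟨t, ht, rfl⟩
    show e t * e z = e z * e t
    rw [← map_mul, hc t ht, map_mul]
  · rintro _ ⟨w, hw, rfl⟩ hww hwc
    have h3 : w * w = 1 := e.injective (by rw [map_mul, map_one]; exact hww)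
    rcases hu w hw h3 (fun t ht => e.injective (by rw [map_mul, map_mul]; exact hwc (e t) ⟨t, ht, rfl⟩)) with h | h
    · left; show e w = 1; rw [h, map_one]
    · right; show e w = e z; rw [h]
  · refine dvd_trans (dvd_of_eq ?_) hM
    have h4 : (centralizer ({z} : Set S)).map e.toMonoidHom = centralizer ({e z} : Set S') := by
      ext x
      rw [mem_centralizer_singleton_iff]
      constructor
      · rintro ⟨y, hy, rfl⟩
        have h5 := mem_centralizer_singleton_iff.1 hy
        show e y * e z = e z * e y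
        rw [← map_mul, h5, map_mul]
      · intro hx
        obtain ⟨y, rfl⟩ := e.surjective x
        refine ⟨y, mem_centralizer_singleton_iff.2 (e.injective ?_), rfl⟩
        rw [map_mul, map_mul]
        exact hx
    rw [← h4]
    exact (Nat.card_congr ((centralizer ({z} : Set S)).equivMapOfInjective e.toMonoidHom e.injective).toEquiv).symm

open Cfsg.Agent.Co2Type.Quad in
theorem zt_of_large {G : Type u} [Group G] [Finite G] {Q : Subgroup G} {z : G} (h : Large Q z) {M : ℕ}
    (hM : Nat.card (centralizer ({z} : Set G)) ∣ M) : ZT G M := by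
  have hQ : IsPGroup 2 Q := by
    intro x
    refine ⟨2, Subtype.ext ?_⟩
    show (x : G) ^ (2 ^ 2) = 1
    have e : (x : G) ^ (2 ^ 2) = ((x : G) * x) * ((x : G) * x) := by simp only [show (2:ℕ)^2 = 4 from rfl, pow_succ, pow_zero, one_mul, mul_assoc]
    rcases h.sq x x.2 with h1 | h1
    · rw [e, h1, one_mul]
    · rw [e, h1, h.z_sq]
  refine zt_of_cent hQ h.z_ne h.z_sq ?_ hM
  intro x _ hx
  refine h.cent x (h.self x (hx z h.z_mem).symm fun y hy => (hx y hy).symm) fun y hy => (hx y hy).symm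

theorem zt_suz {S : Type u} [Group S] (h : Spor.IsoSuz S) : ZT S 3317760 := by
  obtain ⟨e⟩ := h
  have hf : Finite Spor.Suz := Nat.finite_of_card_ne_zero (by
    rw [NotCT.Orders.suz ⟨MulEquiv.refl _⟩]; norm_num)
  exact ZT.congr e.symm (zt_of_large KFacts.SuzLarge.large (dvd_of_eq SuzThree.CentCard.card_C1))

theorem zt_hn {S : Type u} [Group S] (h : Spor.IsoHN S) : ZT S 3686400 := by
  obtain ⟨e⟩ := h
  have hf : Finite Spor.HN := Nat.finite_of_card_ne_zero (by
    rw [NotCT.Orders.hn ⟨MulEquiv.refl _⟩]; norm_num)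
  exact ZT.congr e.symm (zt_of_large KFacts.HN.large (dvd_of_eq KFacts.HN.PCard.card_centralizer))

theorem zt_j2 {S : Type u} [Group S] [Finite S] (h : Spor.IsoJ2 S) : ZT S 1920 := by
  obtain ⟨t, u, Q, v, ρ, D⟩ := KFacts.J2.Facts.exists_dat_of h
  have hc : Nat.card (centralizer ({t} : Set S)) = 1920 := D.cardC
  exact zt_of_large (KFacts.J3Sheet.large hc D.M) (dvd_of_eq hc)

theorem zt_j3 {S : Type u} [Group S] [Finite S] (h : Spor.IsoJ3 S) : ZT S 1920 := by
  obtain ⟨-, z, Q, v, ρ, n, u, F⟩ := KFacts.J3.exists_facts h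
  exact zt_of_large (KFacts.J3Sheet.large F.card_C F.model) (dvd_of_eq F.card_C)

end Cfsg.Agent.H171.RV.TwoP
end
end
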